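import Mathlib

/-!
The (undirected) power graph determines which products of two primes occur as element orders.
-/

set_option autoImplicit false

namespace Cfsg.Agent.PowerGraph

open Subgroup

variable {G H : Type*} [Group G] [Group H]

/-- Adjacency (or equality) in the power graph. -/
def Adj (x y : G) : Prop := x ∈ zpowers y ∨ y ∈ zpowers x

theorem Adj.symm {x y : G} (h : Adj x y) : Adj y x := Or.symm h

theorem adj_one (x : G) : Adj 1 x := Or.inl (one_mem _)

theorem adj_congr {a b : G} (h : zpowers a = zpowers b) (z : G) : Adj a z ↔ Adj b z := by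
  have h1 : a ∈ zpowers z ↔ b ∈ zpowers z := by
    rw [← zpowers_le, ← zpowers_le (g := b), h]
  exact or_congr h1 (by rw [h])

theorem orderOf_eq_of_zpowers_eq {a b : G} (h : zpowers a = zpowers b) : orderOf a = orderOf b := by
  rw [← Nat.card_zpowers, h, Nat.card_zpowers]

variable [Finite G] [Finite H]

theorem mem_of_dvd {a b z : G} (ha : a ∈ zpowers z) (hb : b ∈ zpowers z)
    (hd : orderOf a ∣ orderOf b) : a ∈ zpowers b := by
  classical
  cases nonempty_fintype G
  set A := zpowers z
  haveI : IsCyclic A := inferInstance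
  have hle := IsCyclic.card_pow_eq_one_le (α := A) (n := orderOf b) (orderOf_pos b)
  by_contra hnot
  have hsub : insert (⟨a, ha⟩ : A) (Finset.univ.filter fun x : A => (x : G) ∈ zpowers b) ⊆
      Finset.univ.filter fun x : A => x ^ orderOf b = 1 := by
    intro x hx
    rw [Finset.mem_filter]
    refine ⟨Finset.mem_univ _, Subtype.ext ?_⟩
    rw [SubmonoidClass.coe_pow, OneMemClass.coe_one, ← orderOf_dvd_iff_pow_eq_one]
    rcases Finset.mem_insert.1 hx with rfl | hx
    · exact hd
    · exact orderOf_dvd_of_mem_zpowers (Finset.mem_filter.1 hx).2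
  have h4 := (Finset.card_le_card hsub).trans hle
  have hcard := Finset.card_insert_of_notMem (a := (⟨a, ha⟩ : A))
    (s := Finset.univ.filter fun x : A => (x : G) ∈ zpowers b) (by simpa using hnot)
  rw [hcard, ← Fintype.card_subtype, ← Nat.card_eq_fintype_card,
    show Nat.card {x : A // (x : G) ∈ zpowers b} = orderOf b from
      (Nat.card_congr (Subgroup.subgroupOfEquivOfLe (zpowers_le.2 hb)).toEquiv).trans (Nat.card_zpowers b)] at h4
  omega

theorem adj_iff_dvd {a b z : G} (ha : a ∈ zpowers z) (hb : b ∈ zpowers z) :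
    Adj a b ↔ orderOf a ∣ orderOf b ∨ orderOf b ∣ orderOf a :=
  ⟨Or.imp orderOf_dvd_of_mem_zpowers orderOf_dvd_of_mem_zpowers,
    Or.imp (mem_of_dvd ha hb) (mem_of_dvd hb ha)⟩

theorem zpowers_eq_of_orderOf_eq {a b z : G} (ha : a ∈ zpowers z) (hb : b ∈ zpowers z)
    (h : orderOf a = orderOf b) : zpowers a = zpowers b :=
  le_antisymm (zpowers_le.2 (mem_of_dvd ha hb h.dvd)) (zpowers_le.2 (mem_of_dvd hb ha h.symm.dvd))

theorem exists_orderOf (g : G) {d : ℕ} (hd : d ∣ orderOf g) :
    ∃ a ∈ zpowers g, orderOf a = d := by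
  obtain ⟨k, hk⟩ := hd
  refine ⟨g ^ k, pow_mem (mem_zpowers g) k, ?_⟩
  have := orderOf_pos g
  have hk0 : k ≠ 0 := by rintro rfl; rw [mul_zero] at hk; omega
  rw [orderOf_pow' g hk0, hk, Nat.gcd_eq_right (Dvd.intro_left _ rfl),
    Nat.mul_div_cancel _ (Nat.pos_of_ne_zero hk0)]

/-- The generators of `zpowers g`. -/
def gens (g : G) : Set G := {a | zpowers a = zpowers g}

theorem ncard_gens (g : G) : (gens g).ncard = (orderOf g).totient := by
  classical
  cases nonempty_fintype G
  set A := zpowers g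
  have hA : Fintype.card A = orderOf g := by rw [← Nat.card_eq_fintype_card, Nat.card_zpowers]
  have h := IsCyclic.card_orderOf_eq_totient (α := A) (d := orderOf g) (hA ▸ dvd_rfl)
  have himg : gens g = ((↑) : A → G) '' {a | orderOf a = orderOf g} := by
    ext a
    constructor
    · intro ha
      have hmem : a ∈ A := (show zpowers a = A from ha) ▸ mem_zpowers a
      exact ⟨⟨a, hmem⟩, (Subgroup.orderOf_mk a hmem).trans (orderOf_eq_of_zpowers_eq ha), rfl⟩
    · rintro ⟨⟨b, hb⟩, hb', rfl⟩
      exact zpowers_eq_of_orderOf_eq hb (mem_zpowers g) ((Subgroup.orderOf_mk b hb).symm.trans hb')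
  rw [himg, Set.ncard_image_of_injective _ Subtype.val_injective, Set.ncard_eq_toFinset_card',
    Set.toFinset_ofPred]
  exact h

/-- If `g` generates a maximal cyclic subgroup and `orderOf g` is divisible by two primes, every
non-trivial non-generator in it is incomparable with some non-trivial prime power element. -/
theorem exists_incomparable {g z : G} {p q : ℕ} (hp : p.Prime) (hq : q.Prime) (hpq : p ≠ q)
    (hpn : p ∣ orderOf g) (hqn : q ∣ orderOf g) (hz : z ∈ zpowers g) (hz1 : z ≠ 1)
    (hzn : orderOf z ≠ orderOf g) :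
    ∃ v ∈ zpowers g, IsPrimePow (orderOf v) ∧ ¬ Adj z v := by
  have hd : orderOf z ∣ orderOf g := orderOf_dvd_of_mem_zpowers hz
  have hd1 : orderOf z ≠ 1 := fun h => hz1 (orderOf_eq_one_iff.1 h)
  by_cases hpp : IsPrimePow (orderOf z)
  · obtain ⟨s, i, hs, hi, hsi⟩ := hpp
    obtain ⟨s', hs', hs'n, hne⟩ : ∃ s', s'.Prime ∧ s' ∣ orderOf g ∧ s' ≠ s := by
      by_cases h : p = s
      · exact ⟨q, hq, hqn, fun e => hpq (h.trans e.symm)⟩
      · exact ⟨p, hp, hpn, h⟩
    obtain ⟨v, hv, hvo⟩ := exists_orderOf g hs'n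
    refine ⟨v, hv, hvo ▸ hs'.isPrimePow, fun h => ?_⟩
    rw [adj_iff_dvd hz hv, hvo, ← hsi] at h
    rcases h with h | h
    · exact hne ((Nat.prime_dvd_prime_iff_eq (Nat.prime_iff.mpr hs) hs').1
        ((dvd_pow_self s hi.ne').trans h)).symm
    · exact hne ((Nat.prime_dvd_prime_iff_eq hs' (Nat.prime_iff.mpr hs)).1 (hs'.dvd_of_dvd_pow h))
  · obtain ⟨s, a, hs, ha, hsn, hnd⟩ : ∃ s a, s.Prime ∧ 0 < a ∧ s ^ a ∣ orderOf g ∧
        ¬ s ^ a ∣ orderOf z := by
      by_contra hcon
      push Not at hcon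
      refine hzn (Nat.dvd_antisymm hd ?_)
      rw [Nat.dvd_iff_prime_pow_dvd_dvd]
      intro s k hs hsk
      rcases Nat.eq_zero_or_pos k with rfl | hk
      · simp
      · exact hcon s k hs hk hsk
    obtain ⟨v, hv, hvo⟩ := exists_orderOf g hsn
    refine ⟨v, hv, hvo ▸ (isPrimePow_nat_iff _).2 ⟨s, a, hs, ha, rfl⟩, fun h => ?_⟩
    rw [adj_iff_dvd hz hv, hvo] at h
    rcases h with h | h
    · obtain ⟨i, -, hi⟩ := (Nat.dvd_prime_pow hs).1 h
      refine hpp ((isPrimePow_nat_iff _).2 ⟨s, i, hs, Nat.pos_of_ne_zero fun e => hd1 ?_, hi.symm⟩)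
      rw [hi, e, pow_zero]
    · exact hnd h

/-- An element of `zpowers g` comparable with all of it is trivial or a generator. -/
theorem eq_or_gen {g z : G} {p q : ℕ} (hp : p.Prime) (hq : q.Prime) (hpq : p ≠ q)
    (hpn : p ∣ orderOf g) (hqn : q ∣ orderOf g) (hz : z ∈ zpowers g)
    (hall : ∀ v ∈ zpowers g, Adj z v) : z = 1 ∨ z ∈ gens g := by
  by_contra h
  rw [not_or] at h
  obtain ⟨v, hv, -, hv'⟩ := exists_incomparable hp hq hpq hpn hqn hz h.1
    (fun e => h.2 (zpowers_eq_of_orderOf_eq hz (mem_zpowers g) e))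
  exact hv' (hall v hv)

/-- A maximal cyclic subgroup of order divisible by two primes gives an element of the same order
in a group with isomorphic power graph. -/
theorem exists_same_order (e : G ≃ H) (he1 : e 1 = 1) (he : ∀ x y, Adj x y ↔ Adj (e x) (e y))
    (g : G) (hmax : ∀ a, g ∈ zpowers a → a ∈ zpowers g) {p q : ℕ} (hp : p.Prime) (hq : q.Prime)
    (hlt : p < q) (hpn : p ∣ orderOf g) (hqn : q ∣ orderOf g) :
    ∃ x : H, orderOf x = orderOf g := by
  classical
  have hpq : p ≠ q := hlt.ne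
  set x := e g with hxdef
  have hN : ∀ a, Adj g a ↔ a ∈ zpowers g :=
    fun a => ⟨fun h => h.elim (hmax a) id, Or.inr⟩
  have hg1 : g ≠ 1 := by
    rintro rfl
    rw [orderOf_one] at hpn
    exact hp.one_lt.ne' (Nat.dvd_one.1 hpn)
  have hx1 : x ≠ 1 := fun h => hg1 (e.injective (h.trans he1.symm))
  have hback : ∀ z, Adj x z → e.symm z ∈ zpowers g := fun z hz =>
    (hN _).1 ((he _ _).2 (by rwa [e.apply_symm_apply]))
  have hne1 : ∀ z, z ≠ 1 → e.symm z ≠ 1 := fun z hz h => hz (by
    rw [← e.apply_symm_apply z, h, he1])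
  have htwin : ∀ z, e.symm z ∈ gens g → ∀ w, Adj z w ↔ Adj x w := by
    intro z hz w
    have h1 := he (e.symm z) (e.symm w)
    have h2 := he g (e.symm w)
    rw [e.apply_symm_apply, e.apply_symm_apply] at h1
    rw [e.apply_symm_apply] at h2
    rw [← h1, hxdef, ← h2]
    exact adj_congr hz _
  by_cases hkpp : IsPrimePow (orderOf x)
  · exfalso
    obtain ⟨r, b, hr, hb, hrb⟩ := (isPrimePow_nat_iff _).1 hkpp
    have hgens_r : ∀ z, e.symm z ∈ gens g → ∀ s, s.Prime → s ∣ orderOf z → s = r := by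
      intro z hz s hs hsd
      obtain ⟨v, hv, hvo⟩ := exists_orderOf z hsd
      rcases (htwin z hz v).1 (Or.inr hv) with h | h
      · have := orderOf_dvd_of_mem_zpowers h
        rw [hvo, ← hrb] at this
        exact ((Nat.prime_dvd_prime_iff_eq hr hs).1 ((dvd_pow_self r hb.ne').trans this)).symm
      · have := orderOf_dvd_of_mem_zpowers h
        rw [hvo, ← hrb] at this
        exact (Nat.prime_dvd_prime_iff_eq hs hr).1 (hs.dvd_of_dvd_pow this)
    obtain ⟨t, ht, htmax⟩ := Set.exists_max_image (e '' gens g) orderOf (Set.toFinite _)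
      ⟨x, g, rfl, rfl⟩
    obtain ⟨a0, ha0, hta⟩ := ht
    have htg : e.symm t ∈ gens g := by rw [← hta, e.symm_apply_apply]; exact ha0
    have hxt : x ∈ e '' gens g := ⟨g, rfl, rfl⟩
    -- everything in `zpowers t` is comparable with all neighbours of `x`
    have hbelow : ∀ w ∈ zpowers t, ∀ z, Adj x z → Adj w z := by
      intro w hw z hz
      rcases (htwin t htg z).2 hz with h | h
      · exact Or.inl (zpowers_le.2 h hw)
      · rw [adj_iff_dvd hw h]
        have ht' : ∀ s, s.Prime → s ∣ orderOf t → s = r := hgens_r t htg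
        have hpow : ∀ d, d ∣ orderOf t → ∃ i, d = r ^ i := by
          intro d hd
          refine ⟨d.primeFactorsList.length, Nat.eq_prime_pow_of_unique_prime_dvd ?_ fun {s} hs hsd =>
            ht' s hs (hsd.trans hd)⟩
          rintro rfl
          exact (orderOf_pos t).ne' (Nat.eq_zero_of_zero_dvd hd)
        obtain ⟨i, hi⟩ := hpow _ (orderOf_dvd_of_mem_zpowers hw)
        obtain ⟨j, hj⟩ := hpow _ (orderOf_dvd_of_mem_zpowers h)
        rw [hi, hj]
        exact (le_total i j).imp (pow_dvd_pow r) (pow_dvd_pow r)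
    have hU : insert 1 (e '' gens g) ⊆ (zpowers t : Set H) := by
      rintro y (rfl | hy)
      · exact one_mem _
      · obtain ⟨a, ha, rfl⟩ := id hy
        have : Adj (e a) t := by
          rw [← hta, ← he]
          exact Or.inl (by rw [show zpowers a0 = zpowers a from ha0.trans ha.symm]; exact mem_zpowers a)
        rcases this with h | h
        · exact h
        · have hle : zpowers t ≤ zpowers (e a) := zpowers_le.2 h
          rw [SetLike.mem_coe, ← Subgroup.eq_of_le_of_card_ge hle
            (by rw [Nat.card_zpowers, Nat.card_zpowers]; exact htmax _ hy) |>.symm]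
          exact mem_zpowers _
    have hUcard : (orderOf g).totient + 1 ≤ orderOf t := by
      have h1 := Set.ncard_le_ncard hU
      have h0 : (1 : H) ∉ e '' gens g := by
        rintro ⟨a, ha, ha1⟩
        have : a = 1 := e.injective (ha1.trans he1.symm)
        subst this
        exact hg1 (zpowers_eq_bot.1 ((show zpowers (1 : G) = zpowers g from ha).symm.trans zpowers_one_eq_bot))
      rw [Set.ncard_insert_of_notMem h0, Set.ncard_image_of_injective _ e.injective, ncard_gens,
        ← Nat.card_coe_set_eq] at h1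
      exact h1.trans (le_of_eq (Nat.card_zpowers t))
    obtain ⟨u, hu, huo⟩ := exists_orderOf g hpn
    obtain ⟨v, hv, hvo⟩ := exists_orderOf g hqn
    have hu1 : u ≠ 1 := by rintro rfl; rw [orderOf_one] at huo; exact hp.one_lt.ne huo
    have huv : ¬ Adj u v := by
      rw [adj_iff_dvd hu hv, huo, hvo]
      rintro (h | h)
      · exact hpq ((Nat.prime_dvd_prime_iff_eq hp hq).1 h)
      · exact hpq ((Nat.prime_dvd_prime_iff_eq hq hp).1 h).symm
    set w := e u with hwdef
    have hxv : Adj x (e v) := (he _ _).1 ((hN _).2 hv)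
    have hwt : w ∉ zpowers t := fun h => huv ((he _ _).2 (hbelow w h _ hxv))
    have htw : t ∈ zpowers w := by
      rcases (htwin t htg w).2 ((he _ _).1 ((hN _).2 hu)) with h | h
      · exact h
      · exact absurd h hwt
    -- generators of `zpowers w` pull back into the generators of `zpowers u`
    have hpull : gens w ⊆ e '' gens u := by
      intro w' hw'
      refine ⟨e.symm w', ?_, e.apply_symm_apply w'⟩
      have hxw' : Adj x w' := ((adj_congr hw' x).2 ((he _ _).1 ((hN _).2 hu)).symm).symm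
      have ha : e.symm w' ∈ zpowers g := hback w' hxw'
      have hiff : ∀ z, Adj (e.symm w') z ↔ Adj u z := fun z => by
        rw [he, e.apply_symm_apply, he u]
        exact adj_congr hw' _
      refine zpowers_eq_of_orderOf_eq ha hu ?_
      rw [huo]
      set d := orderOf (e.symm w') with hd
      have hdn : d ∣ orderOf g := orderOf_dvd_of_mem_zpowers ha
      have hself : d ∣ p ∨ p ∣ d := by
        have := (hiff u).2 (Or.inl (mem_zpowers u))
        rwa [adj_iff_dvd ha hu, huo] at this
      have hd1 : d ≠ 1 := by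
        intro h
        have h1 : e.symm w' = 1 := orderOf_eq_one_iff.1 h
        exact huv ((hiff v).1 (h1 ▸ adj_one v))
      by_contra hdp
      have hpd : p ∣ d := hself.elim (fun h => absurd ((Nat.dvd_prime hp).1 h) (by simp [hd1, hdp])) id
      by_cases hqd : ∃ s, s.Prime ∧ s ≠ p ∧ s ∣ d
      · obtain ⟨s, hs, hsp, hsd⟩ := hqd
        obtain ⟨z, hz, hzo⟩ := exists_orderOf g (hsd.trans hdn)
        have := (hiff z).1 ((adj_iff_dvd ha hz).2 (Or.inr (hzo ▸ hsd)))
        rw [adj_iff_dvd hu hz, huo, hzo] at this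
        rcases this with h | h
        · exact hsp ((Nat.prime_dvd_prime_iff_eq hp hs).1 h).symm
        · exact hsp ((Nat.prime_dvd_prime_iff_eq hs hp).1 h)
      · push Not at hqd
        obtain ⟨z, hz, hzo⟩ := exists_orderOf g
          (((Nat.coprime_primes hp hq).2 hpq).mul_dvd_of_dvd_of_dvd hpn hqn)
        have := (hiff z).2 ((adj_iff_dvd hu hz).2 (Or.inl (by rw [huo, hzo]; exact dvd_mul_right p q)))
        rw [adj_iff_dvd ha hz, hzo, ← hd] at this
        rcases this with h | h
        · have hcop : d.Coprime q := (hq.coprime_iff_not_dvd.2 fun h' => hqd q hq hpq.symm h').symm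
          exact (hself.elim (fun h' => absurd ((Nat.dvd_prime hp).1 h') (by simp [hd1, hdp]))
            fun h' => absurd (Nat.dvd_antisymm (hcop.dvd_of_dvd_mul_right h) h') hdp)
        · exact hqd q hq hpq.symm ((dvd_mul_left q p).trans h)
    have hm := Set.ncard_le_ncard hpull
    rw [Set.ncard_image_of_injective _ e.injective, ncard_gens, ncard_gens, huo,
      Nat.totient_prime hp] at hm
    set m := orderOf w with hmdef
    have htm : orderOf t ∣ m := orderOf_dvd_of_mem_zpowers htw
    have hmt : m ≠ orderOf t := fun h =>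
      hwt (mem_of_dvd (mem_zpowers w) htw h.dvd)
    obtain ⟨c, hc⟩ : ∃ c, orderOf t = r ^ c :=
      ⟨_, Nat.eq_prime_pow_of_unique_prime_dvd (orderOf_pos t).ne' fun {s} hs hsd => hgens_r t htg s hs hsd⟩
    have hlow : orderOf t ≤ m.totient + 1 := by
      by_cases hc1 : r ^ (c + 1) ∣ m
      · have h1 := Nat.le_of_dvd (Nat.totient_pos.2 (show 0 < m from orderOf_pos w)) (Nat.totient_dvd_of_dvd hc1)
        rw [Nat.totient_prime_pow_succ hr] at h1
        have : r ^ c ≤ r ^ c * (r - 1) := Nat.le_mul_of_pos_right _ (by have := hr.two_le; omega)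
        omega
      · obtain ⟨j, hj⟩ := hc ▸ htm
        have hj1 : j ≠ 1 := fun h => hmt (by rw [hj, h, mul_one, hc])
        obtain ⟨s, hs, hsj⟩ := Nat.exists_prime_and_dvd hj1
        have hsr : s ≠ r := by
          rintro rfl
          exact hc1 (hj ▸ pow_succ s c ▸ mul_dvd_mul_left _ hsj)
        have hc0 : c ≠ 0 := by
          rintro rfl
          rw [pow_zero] at hc
          have := Nat.totient_pos.2 (orderOf_pos g)
          omega
        have hrs : r * s ∣ m := hj ▸ mul_dvd_mul (dvd_pow_self r hc0) hsj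
        obtain ⟨z, hz, hzo⟩ := exists_orderOf w hrs
        obtain ⟨x1, hx1', hx1o⟩ := exists_orderOf t (hc ▸ dvd_pow_self r hc0 : r ∣ orderOf t)
        have hx1w : x1 ∈ zpowers w := zpowers_le.2 htw hx1'
        have hx1g : e.symm x1 ∈ gens g := by
          refine (eq_or_gen hp hq hpq hpn hqn (hback x1 (hbelow x1 hx1' x (Or.inl (mem_zpowers x))).symm) ?_).resolve_left
            (hne1 x1 fun h => ?_)
          · intro a ha
            rw [he, e.apply_symm_apply]
            exact hbelow x1 hx1' _ ((he _ _).1 ((hN _).2 ha))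
          · rw [h, orderOf_one] at hx1o
            exact hr.one_lt.ne hx1o
        have hxz : Adj x z := (htwin x1 hx1g z).1
          (Or.inl (mem_of_dvd hx1w hz (by rw [hx1o, hzo]; exact dvd_mul_right r s)))
        have hzt := (htwin t htg z).2 hxz
        rw [adj_iff_dvd htw hz, hc, hzo] at hzt
        have hc' : c = 1 := by
          rcases hzt with h | h
          · by_contra hne
            have h2 : r * r ∣ r * s := ((pow_two r) ▸ pow_dvd_pow r (show 2 ≤ c by omega)).trans h
            exact hsr ((Nat.prime_dvd_prime_iff_eq hr hs).1 (Nat.dvd_of_mul_dvd_mul_left hr.pos h2)).symm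
          · exact absurd ((Nat.prime_dvd_prime_iff_eq hs hr).1
              (hs.dvd_of_dvd_pow ((dvd_mul_left s r).trans h))) hsr
        subst hc'
        have h1 := Nat.le_of_dvd (Nat.totient_pos.2 (show 0 < m from orderOf_pos w))
          (Nat.totient_dvd_of_dvd ((dvd_mul_right r s).trans hrs))
        rw [Nat.totient_prime hr] at h1
        rw [pow_one] at hc
        have := hr.two_le
        omega
    have hbig : p - 1 < (orderOf g).totient := by
      have h1 := Nat.le_of_dvd (Nat.totient_pos.2 (orderOf_pos g))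
        (Nat.totient_dvd_of_dvd (((Nat.coprime_primes hp hq).2 hpq).mul_dvd_of_dvd_of_dvd hpn hqn))
      rw [Nat.totient_mul ((Nat.coprime_primes hp hq).2 hpq), Nat.totient_prime hp,
        Nat.totient_prime hq] at h1
      have h2 : (p - 1) * 2 ≤ (p - 1) * (q - 1) :=
        Nat.mul_le_mul_left _ (by have := hp.two_le; omega)
      have := hp.two_le
      omega
    omega
  · refine ⟨x, ?_⟩
    have hk1 : orderOf x ≠ 1 := fun h => hx1 (orderOf_eq_one_iff.1 h)
    obtain ⟨r, hr, hrk⟩ := Nat.exists_prime_and_dvd hk1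
    obtain ⟨s, hs, hsk, hsr⟩ : ∃ s, s.Prime ∧ s ∣ orderOf x ∧ s ≠ r := by
      by_contra hcon
      push Not at hcon
      have h := Nat.eq_prime_pow_of_unique_prime_dvd (orderOf_pos x).ne' fun {d} hd hdk => hcon d hd hdk
      refine hkpp ((isPrimePow_nat_iff _).2 ⟨r, _, hr, Nat.pos_of_ne_zero fun e0 => hk1 ?_, h.symm⟩)
      rw [h, e0, pow_zero]
    let C : G → Prop := fun z => e z ∈ zpowers x
    have hC : ∀ a ∈ zpowers g, ∀ b ∈ zpowers g, ¬ Adj a b → C a → C b := by
      intro a ha b hb hab hCa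
      rcases (he _ _).1 ((hN _).2 hb) with h | h
      · exact absurd ((he a b).2 (Or.inl (zpowers_le.2 h hCa))) hab
      · exact h
    have hCsym : ∀ a ∈ zpowers g, ∀ b ∈ zpowers g, ¬ Adj a b → (C a ↔ C b) := fun a ha b hb hab =>
      ⟨hC a ha b hb hab, hC b hb a ha fun h => hab h.symm⟩
    obtain ⟨up, hup, hupo⟩ := exists_orderOf g hpn
    obtain ⟨uq, huq, huqo⟩ := exists_orderOf g hqn
    have hpp' : ∀ a ∈ zpowers g, ∀ b ∈ zpowers g, ∀ {s1 s2 i1 i2 : ℕ}, s1.Prime → s2.Prime → 0 < i1 →
        0 < i2 → s1 ≠ s2 → orderOf a = s1 ^ i1 → orderOf b = s2 ^ i2 → (C a ↔ C b) := by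
      intro a ha b hb s1 s2 i1 i2 h1 h2 hi1 hi2 hne hao hbo
      refine hCsym a ha b hb fun h => ?_
      rw [adj_iff_dvd ha hb, hao, hbo] at h
      rcases h with h | h
      · exact hne ((Nat.prime_dvd_prime_iff_eq h1 h2).1 (h1.dvd_of_dvd_pow ((dvd_pow_self s1 hi1.ne').trans h)))
      · exact hne ((Nat.prime_dvd_prime_iff_eq h2 h1).1 (h2.dvd_of_dvd_pow ((dvd_pow_self s2 hi2.ne').trans h))).symm
    have hall : ∀ z ∈ zpowers g, z ≠ 1 → z ∉ gens g → (C z ↔ C up) := by
      intro z hz hz1 hzg
      obtain ⟨v, hv, hvpp, hzv⟩ := exists_incomparable hp hq hpq hpn hqn hz hz1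
        (fun h => hzg (zpowers_eq_of_orderOf_eq hz (mem_zpowers g) h))
      obtain ⟨d, i, hd, hi, hdi⟩ := (isPrimePow_nat_iff _).1 hvpp
      rw [hCsym z hz v hv hzv]
      by_cases hdp : d = p
      · rw [hpp' v hv uq huq hd hq hi one_pos (hdp ▸ hpq) hdi.symm (by rw [huqo, pow_one]),
          hpp' uq huq up hup hq hp one_pos one_pos hpq.symm (by rw [huqo, pow_one]) (by rw [hupo, pow_one])]
      · exact hpp' v hv up hup hd hp hi one_pos hdp hdi.symm (by rw [hupo, pow_one])
    have hnotgen : ∀ z, Adj x z → ∀ a, Adj x a → ¬ Adj z a → e.symm z ∉ gens g :=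
      fun z _ a ha hza hz => hza ((htwin z hz a).2 ha)
    obtain ⟨xr, hxr, hxro⟩ := exists_orderOf x hrk
    obtain ⟨xs, hxs, hxso⟩ := exists_orderOf x hsk
    have hrs : ¬ Adj xr xs := by
      rw [adj_iff_dvd hxr hxs, hxro, hxso]
      rintro (h | h)
      · exact hsr ((Nat.prime_dvd_prime_iff_eq hr hs).1 h).symm
      · exact hsr ((Nat.prime_dvd_prime_iff_eq hs hr).1 h)
    have hxr1 : xr ≠ 1 := by rintro rfl; rw [orderOf_one] at hxro; exact hr.one_lt.ne hxro
    have hCup : C up := (hall (e.symm xr) (hback _ (Or.inr hxr)) (hne1 _ hxr1)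
      (hnotgen xr (Or.inr hxr) xs (Or.inr hxs) hrs)).1 (by
        show e (e.symm xr) ∈ zpowers x
        rwa [e.apply_symm_apply])
    have hX : ∀ z, Adj x z → z ∈ zpowers x := by
      intro z hz
      by_contra hzx
      have hxz : x ∈ zpowers z := hz.resolve_right hzx
      have hz1 : z ≠ 1 := fun h => hzx (h ▸ one_mem _)
      have hd : orderOf x ∣ orderOf z := orderOf_dvd_of_mem_zpowers hxz
      obtain ⟨s', i, hs', hi, hnd⟩ : ∃ s' i, s'.Prime ∧ s' ^ i ∣ orderOf z ∧ ¬ s' ^ i ∣ orderOf x := by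
        by_contra hcon
        push Not at hcon
        exact hzx (mem_of_dvd (mem_zpowers z) hxz ((Nat.dvd_iff_prime_pow_dvd_dvd _ _).2 hcon))
      obtain ⟨a, ha, hao⟩ := exists_orderOf z hi
      have hax : ¬ Adj x a := by
        rw [adj_iff_dvd hxz ha, hao]
        rintro (h | h)
        · obtain ⟨j, -, hj⟩ := (Nat.dvd_prime_pow hs').1 h
          refine hkpp ((isPrimePow_nat_iff _).2 ⟨s', j, hs', Nat.pos_of_ne_zero fun e0 => hk1 ?_, hj.symm⟩)
          rw [hj, e0, pow_zero]
        · exact hnd h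
      have hzg : e.symm z ∉ gens g := fun h => hax ((htwin z h a).1 (Or.inr ha))
      exact hzx (by simpa [C] using (hall (e.symm z) (hback z hz) (hne1 z hz1) hzg).2 hCup)
    have h1 : (zpowers g : Set G) = e ⁻¹' (zpowers x : Set H) := by
      ext a
      refine ⟨fun ha => hX _ ((he _ _).1 ((hN _).2 ha)), fun ha => (hN _).1 ((he _ _).2 (Or.inr ha))⟩
    calc orderOf x = Nat.card (zpowers x : Set H) := (Nat.card_zpowers x).symm
      _ = Nat.card (e ⁻¹' (zpowers x : Set H) : Set G) :=
          (Nat.card_congr (e.subtypeEquiv fun _ => Iff.rfl)).symm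
      _ = orderOf g := by rw [← h1]; exact Nat.card_zpowers g

omit [Finite G] [Finite H] in
theorem swap_adj {a b : G} (ha : ∀ z, Adj a z) (hb : ∀ z, Adj b z) [DecidableEq G] (x y : G) :
    Adj (Equiv.swap a b x) (Equiv.swap a b y) ↔ Adj x y := by
  have key : ∀ x, x = a ∨ x = b → ∀ y, Adj x y := by rintro x (rfl | rfl) <;> assumption
  by_cases hx : x = a ∨ x = b
  · have hx' : Equiv.swap a b x = a ∨ Equiv.swap a b x = b := by
      rcases hx with rfl | rfl <;> simp
    exact iff_of_true (key _ hx' _) (key x hx y)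
  by_cases hy : y = a ∨ y = b
  · have hy' : Equiv.swap a b y = a ∨ Equiv.swap a b y = b := by
      rcases hy with rfl | rfl <;> simp
    exact iff_of_true (key _ hy' _).symm (key y hy x).symm
  rw [not_or] at hx hy
  rw [Equiv.swap_apply_of_ne_of_ne hx.1 hx.2, Equiv.swap_apply_of_ne_of_ne hy.1 hy.2]

theorem exists_orderOf_mul (e : G ≃ H) (he : ∀ x y, Adj x y ↔ Adj (e x) (e y)) {p q : ℕ}
    (hp : p.Prime) (hq : q.Prime) (hpq : p ≠ q) (h : ∃ g : G, orderOf g = p * q) :
    ∃ x : H, orderOf x = p * q := by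
  classical
  obtain ⟨g₀, hg₀⟩ := h
  obtain ⟨g, hg, hgmax⟩ := Set.exists_max_image {a : G | g₀ ∈ zpowers a} orderOf (Set.toFinite _)
    ⟨g₀, mem_zpowers g₀⟩
  have hmax : ∀ a, g ∈ zpowers a → a ∈ zpowers g := fun a ha => by
    rw [Subgroup.eq_of_le_of_card_ge (zpowers_le.2 ha)
      (by rw [Nat.card_zpowers, Nat.card_zpowers]; exact hgmax a (zpowers_le.2 ha hg))]
    exact mem_zpowers a
  have hd : p * q ∣ orderOf g := hg₀ ▸ orderOf_dvd_of_mem_zpowers hg
  let a := e.symm 1
  have hauniv : ∀ z, Adj a z := fun z => (he a z).2 (by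
    rw [show e a = 1 from e.apply_symm_apply 1]; exact adj_one _)
  set f : G ≃ H := (Equiv.swap 1 a).trans e with hf
  have hf1 : f 1 = 1 := by simp [hf, a]
  have hfadj : ∀ x y, Adj x y ↔ Adj (f x) (f y) := fun x y => by
    rw [← swap_adj adj_one hauniv x y]
    exact he _ _
  obtain ⟨x, hx⟩ : ∃ x : H, orderOf x = orderOf g := by
    rcases hpq.lt_or_gt with hlt | hlt
    · exact exists_same_order f hf1 hfadj g hmax hp hq hlt
        ((dvd_mul_right p q).trans hd) ((dvd_mul_left q p).trans hd)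
    · exact exists_same_order f hf1 hfadj g hmax hq hp hlt
        ((dvd_mul_left q p).trans hd) ((dvd_mul_right p q).trans hd)
  obtain ⟨z, -, hz⟩ := exists_orderOf x (hx ▸ hd)
  exact ⟨z, hz⟩

end Cfsg.Agent.PowerGraph
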